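import Cfsg.Agent.Characters.DefectZero
import Cfsg.Agent.Characters.ClassMul
import Cfsg.Agent.Characters.Core
import Cfsg.Agent.Characters.GaloisBasic

/-!
# Exclusion of the value `±3` (helper221; S2464)
-/

set_option autoImplicit false
set_option linter.style.haveILetI false

open Cfsg Subgroup

namespace Cfsg.Agent.H221.TC

open Cfsg.Agent.Characters Cfsg.Agent.Characters.Core

universe u

variable {G : Type u} [Group G]

/-- sums over a class, translated by an element commuting with `s`, modulo the order of `s` -/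
theorem class_sum_mod [Fintype G] {χ : G → ℂ} (hχ : IsIrrCharacter G χ) {r : ℕ} (hr : r.Prime) {s e y : G}
    (hs : orderOf s = r) (hy : Commute s y) [DecidablePred (IsConj e)] [DecidablePred (Commute s)] :
    ∃ b : ℂ, IsIntegral ℤ b ∧ ∑ u with IsConj e u, χ (u * y) =
      ∑ u with (IsConj e u ∧ Commute s u), χ (u * y) + r * b := by
  classical
  letI : MulAction (zpowers s) G :=
    MulAction.compHom G ((MulAut.conj : G →* MulAut G).comp (zpowers s).subtype)
  have hsm : ∀ (x : zpowers s) (u : G), x • u = x * u * (x : G)⁻¹ := fun x u => rfl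
  have hcs : ∀ x ∈ zpowers s, ∀ z, Commute s z → Commute x z := by
    intro x hx z hz
    obtain ⟨k, rfl⟩ := mem_zpowers_iff.1 hx
    exact hz.zpow_left k
  have hcen : ∀ x ∈ zpowers s, ∀ u, Commute s (x * u * x⁻¹) ↔ Commute s u := by
    intro x hx u
    have hsx : Commute s x := (hcs x hx s (Commute.refl s)).symm
    constructor
    · intro h
      have h1 := (hsx.inv_right.mul_right h).mul_right hsx
      have h2 : x⁻¹ * (x * u * x⁻¹) * x = u := by group
      rwa [h2] at h1
    · intro h
      exact (hsx.mul_right h).mul_right hsx.inv_right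
  have hconj : ∀ x u : G, IsConj e (x * u * x⁻¹) ↔ IsConj e u := by
    intro x u
    have h1 : IsConj u (x * u * x⁻¹) := isConj_iff.2 ⟨x, rfl⟩
    exact ⟨fun h => h.trans h1.symm, fun h => h.trans h1⟩
  obtain ⟨b, hb, hsum⟩ := DefectZero.sum_eq_of_dvd_orbit (H := zpowers s) (X := G)
    (integralClosure ℤ ℂ).toSubring r
    (fun u => if IsConj e u ∧ ¬ Commute s u then χ (u * y) else 0)
    (by
      intro x u
      simp only [hsm]
      have h1 : χ ((x : G) * u * (x : G)⁻¹ * y) = χ (u * y) := by
        have h2 : (x : G) * u * (x : G)⁻¹ * y = (x : G) * (u * y) * (x : G)⁻¹ := by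
          have h3 := (hcs x x.2 y hy).inv_left
          rw [mul_assoc, h3.eq]; group
        rw [h2]
        exact isIrr_isClassFunction hχ _ _
      rw [h1]
      exact if_congr (and_congr (hconj _ u) (not_congr (hcen x x.2 u))) rfl rfl)
    (by
      intro u
      by_cases h : IsConj e u ∧ ¬ Commute s u
      · simp only [if_pos h]
        exact GaloisBasic.isIntegral_apply (isIrr_isCharacter hχ) _
      · simp only [if_neg h]
        exact Subring.zero_mem _)
    (by
      intro u hu
      have h : IsConj e u ∧ ¬ Commute s u := by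
        by_contra h
        exact hu (if_neg h)
      have h1 : Nat.card (MulAction.orbit (zpowers s) u) ∣ r := by
        have h2 := MulAction.card_orbit_mul_card_stabilizer_eq_card_group (zpowers s) u
        rw [← Nat.card_eq_fintype_card, ← Nat.card_eq_fintype_card, ← Nat.card_eq_fintype_card, Nat.card_zpowers, hs] at h2
        exact Dvd.intro _ h2
      rcases (Nat.dvd_prime hr).1 h1 with h2 | h2
      · exfalso
        apply h.2
        have h3 := (Nat.card_eq_one_iff_unique.1 h2).1
        have h4 := h3.elim ⟨(⟨s, mem_zpowers s⟩ : zpowers s) • u, MulAction.mem_orbit u _⟩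
          ⟨u, MulAction.mem_orbit_self u⟩
        have h5 : s * u * s⁻¹ = u := congrArg Subtype.val h4
        rw [mul_inv_eq_iff_eq_mul] at h5
        exact h5
      · rw [h2])
  refine ⟨b, hb, ?_⟩
  rw [← hsum, Finset.sum_filter, Finset.sum_filter, ← Finset.sum_add_distrib]
  refine Finset.sum_congr rfl fun u _ => ?_
  by_cases h1 : IsConj e u
  · by_cases h2 : Commute s u
    · rw [if_pos h1, if_pos ⟨h1, h2⟩, if_neg (fun h => h.2 h2), add_zero]
    · rw [if_pos h1, if_neg (fun h => h2 h.2), if_pos ⟨h1, h2⟩, zero_add]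
  · rw [if_neg h1, if_neg (fun h => h1 h.1), if_neg (fun h => h1 h.1), add_zero]

/-- **Exclusion of `±3`.** -/
theorem not_three [Finite G] {χ : G → ℂ} (hχ : IsIrrCharacter G χ) {r : ℕ} (hr : r.Prime) (hr3 : r ≠ 3) {s e : G}
    (hs : orderOf s = r) (he : orderOf e = 3) (hse : Commute s e)
    (hK : ∀ k, IsConj e k → Commute s k → k = e ∨ k = e⁻¹) (hinv : IsConj e e⁻¹) {c : ℤ} (hc : c = 3 ∨ c = -3)
    (h1 : χ s = c) (h2 : χ (s * e) = 0) (h3 : χ (s * e⁻¹) = 0) : False := by
  classical
  have := Fintype.ofFinite G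
  obtain ⟨b, hb, hsum⟩ := class_sum_mod hχ hr (e := e) (y := s * e) hs ((Commute.refl s).mul_right hse)
  rw [ClassMul.sum_class_char_mul hχ e (s * e), h2, mul_zero, zero_div] at hsum
  have hne : e ≠ e⁻¹ := by
    intro h
    have h4 : e ^ 2 = 1 := by rw [pow_two]; nth_rewrite 2 [h]; rw [mul_inv_cancel]
    have h5 := orderOf_dvd_of_pow_eq_one h4
    rw [he] at h5
    omega
  have hset : Finset.univ.filter (fun u : G => IsConj e u ∧ Commute s u) = {e, e⁻¹} := by
    ext u
    rw [Finset.mem_filter, Finset.mem_insert, Finset.mem_singleton]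
    constructor
    · rintro ⟨-, h4, h5⟩
      exact hK u h4 h5
    · rintro (rfl | rfl)
      · exact ⟨Finset.mem_univ _, IsConj.refl _, hse⟩
      · exact ⟨Finset.mem_univ _, hinv, hse.inv_right⟩
  rw [hset, Finset.sum_pair hne] at hsum
  have h4 : e * (s * e) = s * e⁻¹ := by
    have h5 : e * e = e⁻¹ := by
      rw [eq_inv_iff_mul_eq_one, ← pow_three']
      rw [← he]; exact pow_orderOf_eq_one e
    rw [← mul_assoc, ← hse.eq, mul_assoc, h5]
  have h5 : e⁻¹ * (s * e) = s := by
    rw [hse.eq]; group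
  rw [h4, h5, h3, h1, zero_add] at hsum
  -- `r b = -c`
  have h6 : (r : ℂ) * b = ((-c : ℤ) : ℂ) := by
    push_cast
    linear_combination -hsum
  have hr0 : (r : ℂ) ≠ 0 := by exact_mod_cast hr.ne_zero
  have h7 : b = ((-c : ℤ) : ℂ) / (r : ℂ) := by
    rw [eq_div_iff hr0, mul_comm]; exact h6
  have h8 : ∃ z : ℤ, b = z := by
    have h9 : b = algebraMap ℚ ℂ ((-c : ℤ) / (r : ℚ)) := by
      rw [h7, map_div₀]; simp
    rw [h9] at hb ⊢
    have h10 : IsIntegral ℤ ((-c : ℤ) / (r : ℚ) : ℚ) := (isIntegral_algebraMap_iff (algebraMap ℚ ℂ).injective).1 hb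
    obtain ⟨z, hz⟩ := IsIntegrallyClosed.isIntegral_iff.1 h10
    exact ⟨z, by rw [← hz]; simp⟩
  obtain ⟨z, hz⟩ := h8
  have h9 : (r : ℤ) * z = -c := by
    rw [hz] at h6
    exact_mod_cast h6
  have h10 : (r : ℤ) ∣ 3 := by
    rcases hc with rfl | rfl
    · exact ⟨-z, by linarith⟩
    · exact ⟨z, by linarith⟩
  have h11 : r ∣ 3 := by exact_mod_cast h10
  exact hr3 ((Nat.prime_dvd_prime_iff_eq hr Nat.prime_three).1 h11)

end Cfsg.Agent.H221.TC
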