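import Cfsg.Agent.H221.TC.One
import Cfsg.Agent.H221.TC.Three

/-!
# Clean tori: the number of characters with a nonzero constant value (helper221; S2464)
-/

set_option autoImplicit false

open Cfsg Subgroup

namespace Cfsg.Agent.H221.TC

open Cfsg.Agent.Characters.Core

universe u

variable {G : Type u} [Group G] {T : Subgroup G}

/-- a finset of irreducible characters with nonzero constant values on `T - 1`: the squares add up to at most `w` -/
theorem sum_le [Finite G] (hab : ∀ a ∈ T, ∀ b ∈ T, a * b = b * a)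
    (hc : ∀ a ∈ T, a ≠ 1 → Subgroup.centralizer ({a} : Set G) ≤ T) {w : ℕ}
    (hw : T.relIndex (normalizer (T : Set G)) = w) (hk : w * (w + 2) + 1 < Nat.card T)
    (S : Finset (IrrCharacter G)) (d : IrrCharacter G → ℤ)
    (hS : ∀ χ ∈ S, ∀ t ∈ T, t ≠ 1 → (χ : G → ℂ) t = d χ) : ∑ χ ∈ S, d χ ^ 2 ≤ w := by
  classical
  have : Finite (IrrCharacter G) := finite_irr
  have := Fintype.ofFinite (IrrCharacter G)
  obtain ⟨c, h1, h2, h3, -⟩ := sum_sq hab hc hw hk
  obtain ⟨t, ht, ht1⟩ : ∃ t ∈ T, t ≠ 1 := by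
    have h4 : 1 < Nat.card T := by omega
    have h5 : Nontrivial T := Finite.one_lt_card_iff_nontrivial.1 h4
    obtain ⟨t, ht⟩ := exists_ne (1 : T)
    exact ⟨t, t.2, fun h => ht (Subtype.ext h)⟩
  have h4 : ∀ χ ∈ S, d χ = c χ := by
    intro χ hχ
    have h5 := h1 χ ⟨d χ, hS χ hχ⟩ t ht ht1
    rw [hS χ hχ t ht ht1] at h5
    exact_mod_cast h5
  calc ∑ χ ∈ S, d χ ^ 2 = ∑ χ ∈ S, c χ ^ 2 := Finset.sum_congr rfl fun χ hχ => by rw [h4 χ hχ]
    _ ≤ ∑ χ, c χ ^ 2 := Finset.sum_le_sum_of_subset_of_nonneg (Finset.subset_univ _) fun _ _ _ => sq_nonneg _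
    _ = w := h3

/-- there are at most `w` irreducible characters with a nonzero constant integer value on `T - 1` -/
theorem card_le [Finite G] (hab : ∀ a ∈ T, ∀ b ∈ T, a * b = b * a)
    (hc : ∀ a ∈ T, a ≠ 1 → Subgroup.centralizer ({a} : Set G) ≤ T) {w : ℕ}
    (hw : T.relIndex (normalizer (T : Set G)) = w) (hk : w * (w + 2) + 1 < Nat.card T)
    (S : Finset (IrrCharacter G))
    (hS : ∀ χ ∈ S, ∃ c : ℤ, c ≠ 0 ∧ ∀ t ∈ T, t ≠ 1 → (χ : G → ℂ) t = c) : S.card ≤ w := by
  classical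
  choose! d hd0 hd using hS
  have h1 := sum_le hab hc hw hk S d hd
  have h2 : (S.card : ℤ) ≤ ∑ χ ∈ S, d χ ^ 2 := by
    rw [Finset.card_eq_sum_ones]
    push_cast
    refine Finset.sum_le_sum fun χ hχ => ?_
    have h3 := hd0 χ hχ
    have : 0 < d χ ^ 2 := by positivity
    omega
  exact_mod_cast h2.trans h1

/-- values on a torus: degree congruence -/
theorem deg_mod [Finite G] {A : Subgroup G} {χ : G → ℂ} (hχ : IsCharacter G χ) {c d : ℤ}
    (h : ∀ a ∈ A, a ≠ 1 → χ a = c) (hd : χ 1 = d) : (Nat.card A : ℤ) ∣ d - c := by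
  classical
  have := Fintype.ofFinite A
  obtain ⟨a, ha⟩ := classInner_isNat (isCharacter_comp A.subtype hχ) (isCharacter_one (G := A))
  have hA0 : (Nat.card A : ℂ) ≠ 0 := by exact_mod_cast Nat.card_pos.ne'
  rw [classInner_def] at ha
  have h1 : ∑ s : A, (fun x => χ (A.subtype x)) s * (starRingEnd ℂ) ((1 : A → ℂ) s) = d - c + (Nat.card A : ℂ) * c := by
    have h2 : ∀ s : A, (fun x => χ (A.subtype x)) s * (starRingEnd ℂ) ((1 : A → ℂ) s) =
        (if s = 1 then (d : ℂ) - c else 0) + c := by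
      intro s
      by_cases hs : s = 1
      · subst hs
        simp [hd]
      · rw [if_neg hs, zero_add]
        have := h s s.2 fun h3 => hs (Subtype.ext h3)
        simp [this]
    rw [Finset.sum_congr rfl fun s _ => h2 s, Finset.sum_add_distrib, Finset.sum_ite_eq', if_pos (Finset.mem_univ _),
      Finset.sum_const, Finset.card_univ, nsmul_eq_mul, Nat.card_eq_fintype_card]
  have h3 : (d : ℂ) - c = (Nat.card A : ℂ) * (a - c) := by
    have h4 : (Nat.card A : ℂ)⁻¹ * (d - c + (Nat.card A : ℂ) * c) = a := by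
      rw [← h1]; exact ha
    field_simp at h4
    linear_combination h4
  refine ⟨(a : ℤ) - c, ?_⟩
  exact_mod_cast h3

end Cfsg.Agent.H221.TC
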