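import Cfsg.Agent.H221.TC.Gram
import Mathlib.GroupTheory.FiniteAbelian.Duality

/-!
# Clean tori: the exceptional families (helper221; S2464)
-/

set_option autoImplicit false
set_option linter.unusedSectionVars false

open Cfsg Subgroup
open scoped ComplexConjugate

namespace Cfsg.Agent.H221.TC

open Cfsg.Agent.Characters.Core

universe u

variable {G : Type u} [Group G] {A T : Subgroup G} {m : ℕ}

theorem cj_one : cj (1 : normalizer (T : Set G)) = MonoidHom.id T := by
  ext t
  simp [cj_apply]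

theorem finite_hom [Finite G] : Finite (T →* ℂˣ) := by
  have := finite_irr (G := T)
  exact Finite.of_injective (fun l : T →* ℂˣ => (⟨lf l, isIrr_lf l⟩ : IrrCharacter T))
    fun l l' h => lf_inj (congrArg Subtype.val h)

theorem nt_comp (h : Tor A T m) [Finite G] {l : T →* ℂˣ} (hl : Nt A l) (x : normalizer (T : Set G)) :
    Nt A (l.comp (cj x)) := by
  obtain ⟨a, haA, ha⟩ := hl
  -- `a = b ^ m`
  have h1 : ∃ k : ℕ, (a ^ k) ^ m = a := by
    have h2 : (orderOf a).Coprime m := by
      have h3 : orderOf a ∣ Nat.card A := by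
        have := Subgroup.orderOf_dvd_natCard A haA
        rwa [Subgroup.orderOf_coe] at this
      exact (Nat.Coprime.coprime_dvd_right h3 h.cop).symm
    obtain ⟨k, hk⟩ := exists_pow_eq_self_of_coprime h2.symm
    exact ⟨k, by rw [← pow_mul, mul_comm, pow_mul]; exact hk⟩
  obtain ⟨k, hk⟩ := h1
  refine ⟨cj x⁻¹ a, ?_, ?_⟩
  · rw [← hk, map_pow, Subgroup.coe_pow]
    exact h.pow _ (cj x⁻¹ _).2
  · rw [MonoidHom.comp_apply]
    have h2 : cj x (cj x⁻¹ a) = a := by
      have := DFunLike.congr_fun (cj_mul x⁻¹ x) a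
      rw [inv_mul_cancel, cj_one] at this
      exact this.symm
    rw [h2]
    exact ha

/-- the family of `l₀` -/
def InFam (A : Subgroup G) (m : ℕ) (l₀ l : T →* ℂˣ) : Prop := Nt A l ∧ SameE m l l₀

/-- conjugacy on the family -/
def setoidFam (A : Subgroup G) (m : ℕ) (l₀ : T →* ℂˣ) : Setoid {l : T →* ℂˣ // InFam A m l₀ l} where
  r l l' := ∃ x : normalizer (T : Set G), l.1 = l'.1.comp (cj x)
  iseqv := by
    refine ⟨fun l => ⟨1, by rw [cj_one, MonoidHom.comp_id]⟩, ?_, ?_⟩
    · rintro l l' ⟨x, hx⟩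
      refine ⟨x⁻¹, ?_⟩
      rw [hx, MonoidHom.comp_assoc, ← cj_mul, inv_mul_cancel, cj_one, MonoidHom.comp_id]
    · rintro l l' l'' ⟨x, hx⟩ ⟨y, hy⟩
      refine ⟨x * y, ?_⟩
      rw [hx, hy, MonoidHom.comp_assoc, ← cj_mul]

/-- **The exceptional family**: representatives of the conjugacy classes on the family of `l₀`, and irreducible
characters of `G` such that induction of differences gives differences. -/
theorem exists_fam [Fintype G] (h : Tor A T m) {l₀ : T →* ℂˣ} (hl₀ : Nt A l₀) :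
    ∃ (n : ℕ) (rep : Fin n → (T →* ℂˣ)) (ε : ℂ) (μ : Fin n → (G → ℂ)), (ε = 1 ∨ ε = -1) ∧
      (∀ i, IsIrrCharacter G (μ i)) ∧ Function.Injective μ ∧ (∀ i, InFam A m l₀ (rep i)) ∧
      (∀ i j, i ≠ j → ∀ x : normalizer (T : Set G), (rep j).comp (cj x) ≠ rep i) ∧
      (∀ l, InFam A m l₀ l → ∃ i, ∃ x : normalizer (T : Set G), l = (rep i).comp (cj x)) ∧
      (∀ i j, indFun T (lf (rep i) - lf (rep j)) = ε • (μ i - μ j)) := by
  classical
  have : Finite (T →* ℂˣ) := finite_hom
  have : Fintype T := Fintype.ofFinite _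
  have : Fintype (normalizer (T : Set G)) := Fintype.ofFinite _
  let st := setoidFam A m l₀
  have : Finite (Quotient st) := inferInstance
  obtain ⟨n, ⟨e⟩⟩ := Finite.exists_equiv_fin (Quotient st)
  let rep : Fin n → (T →* ℂˣ) := fun i => (Quotient.out (e.symm i)).1
  have hrep : ∀ i, InFam A m l₀ (rep i) := fun i => (Quotient.out (e.symm i)).2
  have hdis : ∀ i j, i ≠ j → ∀ x : normalizer (T : Set G), (rep j).comp (cj x) ≠ rep i := by
    intro i j hij x hx
    apply hij
    apply e.symm.injective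
    rw [← Quotient.out_eq (e.symm i), ← Quotient.out_eq (e.symm j)]
    exact Quotient.sound ⟨x, hx.symm⟩
  have hcov : ∀ l, InFam A m l₀ l → ∃ i, ∃ x : normalizer (T : Set G), l = (rep i).comp (cj x) := by
    intro l hl
    refine ⟨e (Quotient.mk st ⟨l, hl⟩), ?_⟩
    have h1 : Quotient.mk st (Quotient.out (e.symm (e (Quotient.mk st ⟨l, hl⟩)))) = Quotient.mk st ⟨l, hl⟩ := by
      rw [Quotient.out_eq, Equiv.symm_apply_apply]
    obtain ⟨x, hx⟩ := Quotient.exact h1.symm
    exact ⟨x, hx⟩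
  obtain ⟨i₀, -⟩ := hcov l₀ ⟨hl₀, fun t _ => rfl⟩
  have hE : ∀ i j, SameE m (rep i) (rep j) := fun i j t ht => by rw [(hrep i).2 t ht, (hrep j).2 t ht]
  let τ : Fin n → (G → ℂ) := fun i => indFun T (lf (rep i) - lf (rep i₀))
  have hsub : ∀ i j, indFun T (lf (rep i) - lf (rep j)) = indFun T (lf (rep i)) - indFun T (lf (rep j)) :=
    fun i j => Cfsg.Agent.Characters.Brauer.indFun_sub T _ _
  have h0 : τ i₀ = 0 := by
    show indFun T (lf (rep i₀) - lf (rep i₀)) = 0
    rw [hsub, sub_self]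
  have hgen : ∀ i, IsGeneralizedCharacter G (τ i) := fun i =>
    ⟨_, _, S0148.result _ _ (isIrr_isCharacter (isIrr_lf (rep i))), S0148.result _ _ (isIrr_isCharacter (isIrr_lf (rep i₀))),
      hsub i i₀⟩
  have hone : ∀ i, τ i 1 = 0 := by
    intro i
    show indFun T (lf (rep i) - lf (rep i₀)) 1 = 0
    rw [indFun_apply]
    have h1 : ∀ x : G, extendByZero T (lf (rep i) - lf (rep i₀)) (x⁻¹ * 1 * x) = 0 := by
      intro x
      rw [mul_one, inv_mul_cancel, extendByZero_of_mem T _ T.one_mem]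
      rw [Pi.sub_apply]
      show lf (rep i) 1 - lf (rep i₀) 1 = 0
      rw [lf_one, lf_one, sub_self]
    rw [Finset.sum_eq_zero fun x _ => h1 x, mul_zero]
  have hT0 : (Nat.card T : ℂ) ≠ 0 := by exact_mod_cast Nat.card_pos.ne'
  have hmv : ∀ i j, (mv (rep i) (rep j) : ℂ) = if i = j then (Nat.card T : ℂ) else 0 := by
    intro i j
    by_cases hij : i = j
    · subst hij
      rw [if_pos rfl, mv_self h (hrep i).1]
    · rw [if_neg hij, mv_eq_zero (hdis i j hij), Nat.cast_zero]
  have hgram : ∀ i j, i ≠ i₀ → j ≠ i₀ → classInner (τ i) (τ j) = if i = j then 2 else 1 := by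
    intro i j hi hj
    show classInner (indFun T (lf (rep i) - lf (rep i₀))) (indFun T (lf (rep j) - lf (rep i₀))) = _
    rw [gram_diff h (hE i i₀), hmv, hmv, hmv, hmv, if_neg hi, if_neg (Ne.symm hj), if_pos rfl]
    by_cases hij : i = j
    · rw [if_pos hij, if_pos hij, sub_zero, sub_zero, ← two_mul, mul_comm, mul_assoc, mul_inv_cancel₀ hT0, mul_one]
    · rw [if_neg hij, if_neg hij, sub_zero, sub_zero, zero_add, inv_mul_cancel₀ hT0]
  obtain ⟨ε, hε, μ, hμ, hinj, hτ⟩ := S0198.result n i₀ τ h0 hgen hone hgram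
  refine ⟨n, rep, ε, μ, hε, hμ, hinj, hrep, hdis, hcov, fun i j => ?_⟩
  have h1 : indFun T (lf (rep i) - lf (rep j)) = τ i - τ j := by
    show _ = indFun T (lf (rep i) - lf (rep i₀)) - indFun T (lf (rep j) - lf (rep i₀))
    rw [hsub, hsub, hsub]; abel
  rw [h1, hτ i, hτ j, ← smul_sub]
  congr 1
  abel

/-- the number of conjugacy classes on a family -/
theorem card_fam_le [Finite G] (h : Tor A T m) {l₀ : T →* ℂˣ} {n : ℕ} {rep : Fin n → (T →* ℂˣ)}
    (hcov : ∀ l, InFam A m l₀ l → ∃ i, ∃ x : normalizer (T : Set G), l = (rep i).comp (cj x)) :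
    Nat.card {l : T →* ℂˣ // InFam A m l₀ l} ≤ n * T.relIndex (normalizer (T : Set G)) := by
  classical
  have : Finite (T →* ℂˣ) := finite_hom
  let N := normalizer (T : Set G)
  have h1 : ∀ l : {l : T →* ℂˣ // InFam A m l₀ l}, ∃ p : Fin n × (N ⧸ T.subgroupOf N),
      l.1 = (rep p.1).comp (cj (Quotient.out p.2)) := by
    intro l
    obtain ⟨i, x, hx⟩ := hcov l.1 l.2
    refine ⟨(i, QuotientGroup.mk x), ?_⟩
    rw [hx]
    obtain ⟨t, ht⟩ := QuotientGroup.mk_out_eq_mul (T.subgroupOf N) x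
    have h2 : (((t : N)) : G) ∈ T := mem_subgroupOf.1 t.2
    show (rep i).comp (cj x) = (rep i).comp (cj (Quotient.out (QuotientGroup.mk x : N ⧸ T.subgroupOf N)))
    have h3 : Quotient.out (QuotientGroup.mk x : N ⧸ T.subgroupOf N) = x * t := ht
    rw [h3, cj_mul, cj_of_mem h h2, MonoidHom.id_comp]
  choose f hf using h1
  have hinj : Function.Injective f := by
    intro l l' hll
    apply Subtype.ext
    rw [hf l, hf l', hll]
  have h2 := Nat.card_le_card_of_injective f hinj
  rwa [Nat.card_prod, Nat.card_fin] at h2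

/-- the linear character agreeing with `l₀` on the elements of order dividing `m`, trivial on `A` -/
theorem exists_gam [Finite G] (h : Tor A T m) (l₀ : T →* ℂˣ) :
    ∃ g : T →* ℂˣ, SameE m g l₀ ∧ ¬ Nt A g := by
  obtain ⟨s, hs1, hs2⟩ := Nat.chineseRemainder h.cop 1 0
  letI : CommGroup T := { (inferInstance : Group T) with mul_comm := fun a b => Subtype.ext (h.comm _ a.2 _ b.2) }
  refine ⟨l₀ ^ s, ?_, ?_⟩
  · intro t ht
    rw [MonoidHom.pow_apply, ← map_pow]
    congr 1
    have h1 : orderOf t ∣ m := orderOf_dvd_of_pow_eq_one ht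
    have h2 : s ≡ 1 [MOD orderOf t] := hs1.of_dvd h1
    rw [pow_eq_pow_iff_modEq.2 h2, pow_one]
  · rintro ⟨a, haA, ha⟩
    apply ha
    rw [MonoidHom.pow_apply, ← map_pow]
    have h1 : orderOf a ∣ Nat.card A := by
      have := Subgroup.orderOf_dvd_natCard A haA
      rwa [Subgroup.orderOf_coe] at this
    have h2 : s ≡ 0 [MOD orderOf a] := hs2.of_dvd h1
    rw [pow_eq_pow_iff_modEq.2 h2, pow_zero, map_one]

/-- the size of a family -/
theorem card_fam_ge [Finite G] (h : Tor A T m) (l₀ : T →* ℂˣ) :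
    Nat.card A ≤ Nat.card {l : T →* ℂˣ // InFam A m l₀ l} + 1 := by
  classical
  have : Finite (T →* ℂˣ) := finite_hom
  obtain ⟨g, hg, hgA⟩ := exists_gam h l₀
  letI : CommGroup T := { (inferInstance : Group T) with mul_comm := fun a b => Subtype.ext (h.comm _ a.2 _ b.2) }
  letI : CommGroup A := { (inferInstance : Group A) with mul_comm := fun a b => Subtype.ext (h.comm _ (h.le a.2) _ (h.le b.2)) }
  -- the power map
  let pw : T →* A :=
    { toFun := fun t => ⟨(t : G) ^ m, h.pow t t.2⟩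
      map_one' := by ext; simp
      map_mul' := fun a b => by
        ext
        show ((a * b : T) : G) ^ m = (a : G) ^ m * (b : G) ^ m
        rw [← Subgroup.coe_pow, mul_pow]; rfl }
  have hpw : Function.Surjective pw := by
    intro a
    have h2 : (orderOf a).Coprime m := (Nat.Coprime.coprime_dvd_right (orderOf_dvd_natCard a) h.cop).symm
    obtain ⟨k, hk⟩ := exists_pow_eq_self_of_coprime h2.symm
    refine ⟨⟨(a ^ k : A), h.le (a ^ k).2⟩, ?_⟩
    ext
    show (((a ^ k : A) : G)) ^ m = a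
    have h3 : ((a ^ k) ^ m : A) = a := by rw [← pow_mul, mul_comm, pow_mul]; exact hk
    exact congrArg Subtype.val h3
  have hcard : Nat.card (A →* ℂˣ) = Nat.card A := CommGroup.card_monoidHom_of_hasEnoughRootsOfUnity A ℂ
  have : Finite (A →* ℂˣ) := Nat.finite_of_card_ne_zero (by rw [hcard]; exact Nat.card_pos.ne')
  -- the map
  have hmem : ∀ α : {α : A →* ℂˣ // α ≠ 1}, InFam A m l₀ (g * α.1.comp pw) := by
    intro α
    constructor
    · have h1 : ∃ a : A, α.1 a ≠ 1 := by
        by_contra hc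
        push Not at hc
        exact α.2 (MonoidHom.ext hc)
      obtain ⟨a, ha⟩ := h1
      obtain ⟨k, hk⟩ := exists_pow_eq_self_of_coprime
        (Nat.Coprime.coprime_dvd_right (orderOf_dvd_natCard a) h.cop).symm.symm
      refine ⟨⟨(a ^ k : A), h.le (a ^ k).2⟩, (a ^ k).2, ?_⟩
      rw [MonoidHom.mul_apply, MonoidHom.comp_apply]
      have h2 : g ⟨(a ^ k : A), h.le (a ^ k).2⟩ = 1 := by
        by_contra hc
        exact hgA ⟨_, (a ^ k).2, hc⟩
      have h3 : pw ⟨(a ^ k : A), h.le (a ^ k).2⟩ = a := by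
        ext
        show (((a ^ k : A) : G)) ^ m = a
        have h3 : ((a ^ k) ^ m : A) = a := by rw [← pow_mul, mul_comm, pow_mul]; exact hk
        exact congrArg Subtype.val h3
      rw [h2, h3, one_mul]
      exact ha
    · intro t ht
      rw [MonoidHom.mul_apply, MonoidHom.comp_apply]
      have h2 : pw t = 1 := by
        ext
        show (t : G) ^ m = 1
        rw [← Subgroup.coe_pow, ht]; rfl
      rw [h2, map_one, mul_one]
      exact hg t ht
  have hinj : Function.Injective (fun α : {α : A →* ℂˣ // α ≠ 1} =>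
      (⟨g * α.1.comp pw, hmem α⟩ : {l : T →* ℂˣ // InFam A m l₀ l})) := by
    intro α β hαβ
    have h1 : g * α.1.comp pw = g * β.1.comp pw := congrArg Subtype.val hαβ
    have h2 := mul_left_cancel h1
    apply Subtype.ext
    ext a
    obtain ⟨t, rfl⟩ := hpw a
    exact congrArg Units.val (DFunLike.congr_fun h2 t)
  have h1 := Nat.card_le_card_of_injective _ hinj
  have h2 : Nat.card {α : A →* ℂˣ // α ≠ 1} + 1 = Nat.card A := by
    rw [← hcard]
    have : Fintype (A →* ℂˣ) := Fintype.ofFinite _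
    rw [Nat.card_eq_fintype_card, Nat.card_eq_fintype_card, Fintype.card_subtype_compl, Fintype.card_subtype_eq]
    have : 0 < Fintype.card (A →* ℂˣ) := Fintype.card_pos
    omega
  omega

end Cfsg.Agent.H221.TC
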