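import Cfsg.Agent.S0146
import Cfsg.Agent.S0148
import Cfsg.Agent.S0198
import Cfsg.Agent.S0145
import Cfsg.Agent.Characters.Core
import Cfsg.Agent.Characters.Brauer

/-!
# Clean tori: the Gram matrix of the differences (helper221; S2464)
-/

set_option autoImplicit false
set_option linter.unusedSectionVars false

open Cfsg Subgroup
open scoped ComplexConjugate

namespace Cfsg.Agent.H221.TC

open Cfsg.Agent.Characters.Core

universe u

variable {G : Type u} [Group G]

/-- A clean torus: `T` abelian, `A ≤ T`, centralizers of nonidentity elements of `A` in `T`. -/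
structure Tor (A T : Subgroup G) (m : ℕ) : Prop where
  comm : ∀ a ∈ T, ∀ b ∈ T, a * b = b * a
  le : A ≤ T
  cent : ∀ a ∈ A, a ≠ 1 → Subgroup.centralizer ({a} : Set G) ≤ T
  pow : ∀ t ∈ T, t ^ m ∈ A
  cop : Nat.Coprime m (Nat.card A)

/-- the function of a linear character -/
def lf {T : Subgroup G} (l : T →* ℂˣ) : T → ℂ := fun t => ((l t : ℂˣ) : ℂ)

theorem lf_apply {T : Subgroup G} (l : T →* ℂˣ) (t : T) : lf l t = ((l t : ℂˣ) : ℂ) := rfl

theorem lf_one {T : Subgroup G} (l : T →* ℂˣ) : lf l 1 = 1 := by simp [lf]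

theorem lf_inj {T : Subgroup G} {l l' : T →* ℂˣ} (h : lf l = lf l') : l = l' := by
  ext t
  exact congrFun h t

/-- conjugation of `T` by an element of its normalizer -/
def cj {T : Subgroup G} (x : normalizer (T : Set G)) : T →* T where
  toFun t := ⟨(x : G)⁻¹ * t * x, by
    have h := (mem_normalizer_iff.1 (inv_mem x.2) (t : G)).1 t.2
    simpa using h⟩
  map_one' := by ext; simp
  map_mul' a b := by ext; simp [mul_assoc]

theorem cj_apply {T : Subgroup G} (x : normalizer (T : Set G)) (t : T) : ((cj x t : T) : G) = (x : G)⁻¹ * t * x := rfl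

variable {A T : Subgroup G} {m : ℕ}

namespace Tor

variable (h : Tor A T m)
include h

/-- the elements with a nontrivial `A`-part have centralizer in `T` -/
theorem cent' {t : G} (ht : t ∈ T) (h1 : t ^ m ≠ 1) {x : G} (hx : x * t = t * x) : x ∈ T := by
  refine h.cent (t ^ m) (h.pow t ht) h1 ?_
  rw [Subgroup.mem_centralizer_singleton_iff]
  exact (Commute.pow_right (show Commute x t from hx) m).eq

/-- the support is a trivial intersection set -/
theorem ti [Finite G] {t x : G} (ht : t ∈ T) (h1 : t ^ m ≠ 1) (hx : x⁻¹ * t * x ∈ T) : x ∈ normalizer (T : Set G) := by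
  have h2 : (x⁻¹ * t * x) ^ m = x⁻¹ * t ^ m * x := by
    have := conj_pow (i := m) (a := x⁻¹) (b := t)
    simpa using this
  have h3 : (x⁻¹ * t * x) ^ m ≠ 1 := by
    rw [h2]
    intro h4
    apply h1
    have : t ^ m = x * (x⁻¹ * t ^ m * x) * x⁻¹ := by group
    rw [this, h4]; group
  -- `x⁻¹ T x ≤ T`
  have h5 : ∀ s ∈ T, x⁻¹ * s * x ∈ T := by
    intro s hs
    refine h.cent' hx h3 ?_
    have := h.comm s hs t ht
    calc x⁻¹ * s * x * (x⁻¹ * t * x) = x⁻¹ * (s * t) * x := by group
      _ = x⁻¹ * (t * s) * x := by rw [this]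
      _ = x⁻¹ * t * x * (x⁻¹ * s * x) := by group
  have h6 : T.map (MulAut.conj x⁻¹).toMonoidHom = T := by
    refine Subgroup.eq_of_le_of_card_ge ?_ ?_
    · rintro _ ⟨s, hs, rfl⟩
      simpa using h5 s hs
    · rw [Subgroup.card_map_of_injective (MulAut.conj x⁻¹).injective]
  rw [mem_normalizer_iff]
  intro s
  constructor
  · intro hs
    have : s ∈ T.map (MulAut.conj x⁻¹).toMonoidHom := by rw [h6]; exact hs
    obtain ⟨r, hr, rfl⟩ := this
    have h7 : x * ((MulAut.conj x⁻¹).toMonoidHom r) * x⁻¹ = r := by simp [mul_assoc]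
    rw [h7]; exact hr
  · intro hs
    have := h5 _ hs
    have h7 : x⁻¹ * (x * s * x⁻¹) * x = s := by group
    rwa [h7] at this

end Tor

section Gram

/-- linear characters are irreducible -/
theorem isIrr_lf (l : T →* ℂˣ) : IsIrrCharacter T (lf l) := by
  let ρ : Representation ℂ T ℂ :=
    { toFun := fun t => ((l t : ℂˣ) : ℂ) • (1 : ℂ →ₗ[ℂ] ℂ)
      map_one' := by simp
      map_mul' := fun a b => by ext; simp [mul_comm] }
  have h1 : ρ.character = lf l := by
    funext t
    show LinearMap.trace ℂ ℂ (((l t : ℂˣ) : ℂ) • (1 : ℂ →ₗ[ℂ] ℂ)) = _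
    simp [lf]
  rw [← h1]
  exact isIrrCharacter_of_rep ρ (isIrr_of_finrank_one (by simp) ρ)

theorem inner_lf [Fintype T] (l l' : T →* ℂˣ) : classInner (lf l) (lf l') = if l = l' then 1 else 0 := by
  rw [classInner_irr (isIrr_lf l) (isIrr_lf l')]
  by_cases hl : l = l'
  · rw [if_pos hl, if_pos (by rw [hl])]
  · rw [if_neg hl, if_neg fun h => hl (lf_inj h)]

/-- a class function of `T` composed with conjugation -/
def twist (β : T → ℂ) (x : normalizer (T : Set G)) : T → ℂ := fun t => β (cj x t)

theorem twist_lf (l : T →* ℂˣ) (x : normalizer (T : Set G)) : twist (lf l) x = lf (l.comp (cj x)) := rfl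

variable [Fintype G] [Fintype (normalizer (T : Set G))] [Fintype T]

/-- values of the induced function on the support -/
theorem indFun_apply_supp (h : Tor A T m) {β : T → ℂ} {t : T} (ht : t ^ m ≠ 1) :
    indFun T β t = (Nat.card T : ℂ)⁻¹ * ∑ x : normalizer (T : Set G), twist β x t := by
  classical
  have ht' : (t : G) ^ m ≠ 1 := fun h1 => ht (Subtype.ext (by simpa using h1))
  rw [indFun_apply]
  congr 1
  have h1 : ∑ x : G, extendByZero T β (x⁻¹ * (t : G) * x) =
      ∑ x ∈ Finset.univ.filter (· ∈ normalizer (T : Set G)), extendByZero T β (x⁻¹ * (t : G) * x) := by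
    symm
    refine Finset.sum_subset (Finset.filter_subset _ _) fun x _ hx => ?_
    refine extendByZero_of_notMem T β fun hm => hx ?_
    exact Finset.mem_filter.2 ⟨Finset.mem_univ _, h.ti t.2 ht' hm⟩
  rw [h1, Finset.sum_subtype (Finset.univ.filter (· ∈ normalizer (T : Set G)))
    (p := (· ∈ normalizer (T : Set G))) (by simp)]
  refine Finset.sum_congr rfl fun x _ => ?_
  exact extendByZero_of_mem T β (cj x t).2

/-- **the Gram formula** -/
theorem gram (h : Tor A T m) {α β : T → ℂ} (hα : ∀ t : T, t ^ m = 1 → α t = 0) :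
    classInner (indFun T α) (indFun T β) =
      (Nat.card T : ℂ)⁻¹ * ∑ x : normalizer (T : Set G), classInner α (twist β x) := by
  classical
  have hcf : IsClassFunction G (indFun T β) := Cfsg.Agent.Characters.Brauer.indFun_isClassFunction T β
  rw [S0146.result T α (indFun T β) hcf, classInner_def]
  simp only [classInner_def]
  have h1 : ∀ t : T, α t * conj (indFun T β (t : G)) =
      (Nat.card T : ℂ)⁻¹ * ∑ x : normalizer (T : Set G), α t * conj (twist β x t) := by
    intro t
    by_cases ht : t ^ m = 1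
    · rw [hα t ht]; simp
    · rw [indFun_apply_supp h ht, map_mul, map_sum, map_inv₀, Complex.conj_natCast, ← Finset.mul_sum]
      ring
  rw [Finset.sum_congr rfl fun t _ => h1 t, ← Finset.mul_sum, Finset.sum_comm, ← Finset.mul_sum]

/-- nontrivial on `A` -/
def Nt (A : Subgroup G) {T : Subgroup G} (l : T →* ℂˣ) : Prop := ∃ a : T, (a : G) ∈ A ∧ l a ≠ 1

/-- the number of elements of the normalizer moving `l'` to `l` -/
noncomputable def mv (l l' : T →* ℂˣ) : ℕ := Nat.card {x : normalizer (T : Set G) // l'.comp (cj x) = l}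

theorem sum_inner (l l' : T →* ℂˣ) :
    ∑ x : normalizer (T : Set G), classInner (lf l) (twist (lf l') x) = (mv l l' : ℂ) := by
  classical
  have h1 : ∀ x : normalizer (T : Set G), classInner (lf l) (twist (lf l') x) =
      if l'.comp (cj x) = l then 1 else 0 := by
    intro x
    rw [twist_lf, inner_lf]
    by_cases hx : l = l'.comp (cj x)
    · rw [if_pos hx, if_pos hx.symm]
    · rw [if_neg hx, if_neg fun h => hx h.symm]
  rw [Finset.sum_congr rfl fun x _ => h1 x, Finset.sum_boole, mv, Nat.card_eq_fintype_card, Fintype.card_subtype]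

omit [Fintype (normalizer (T : Set G))] [Fintype T] in
/-- a regular character is moved by everything outside `T` -/
theorem mem_of_fix (h : Tor A T m) {l : T →* ℂˣ} (hl : Nt A l) {x : normalizer (T : Set G)}
    (hx : l.comp (cj x) = l) : (x : G) ∈ T := by
  classical
  by_contra hxT
  obtain ⟨a, haA, ha⟩ := hl
  apply ha
  -- `a ↦ a⁻¹ a^x` is injective on `A`
  have hst : ∀ b : T, (b : G) ∈ A → ((cj x b : T) : G) ∈ A := by
    intro b hb
    -- `b` is an `m`-th power in `A`
    have h1 : ∃ k : ℕ, (b ^ k) ^ m = b := by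
      have h2 : (orderOf b).Coprime m := by
        have h3 : orderOf b ∣ Nat.card A := by
          have := Subgroup.orderOf_dvd_natCard A hb
          rwa [Subgroup.orderOf_coe] at this
        exact (Nat.Coprime.coprime_dvd_right h3 h.cop).symm
      obtain ⟨k, hk⟩ := exists_pow_eq_self_of_coprime h2.symm
      exact ⟨k, by rw [← pow_mul, mul_comm, pow_mul]; exact hk⟩
    obtain ⟨k, hk⟩ := h1
    rw [← hk, map_pow, Subgroup.coe_pow]
    exact h.pow _ (cj x _).2
  let AT : Subgroup T := A.subgroupOf T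
  let f : AT → AT := fun b => ⟨(b : T)⁻¹ * cj x b, by
    rw [mem_subgroupOf]
    exact A.mul_mem (A.inv_mem b.2) (hst _ b.2)⟩
  have hinj : Function.Injective f := by
    intro b b' hbb
    have h1 : (b : T)⁻¹ * cj x b = (b' : T)⁻¹ * cj x b' := congrArg Subtype.val hbb
    have h2 : cj x ((b : T) * (b' : T)⁻¹) = (b : T) * (b' : T)⁻¹ := by
      have hc : ∀ s t : T, s * t = t * s := fun s t => Subtype.ext (h.comm _ s.2 _ t.2)
      rw [map_mul, map_inv]
      have h3 : cj x (b : T) = b * ((b' : T)⁻¹ * cj x b') := by rw [← h1]; group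
      rw [h3, mul_assoc, mul_assoc, mul_inv_cancel, mul_one]
    have h3 : ((b : T) * (b' : T)⁻¹ : T) = 1 := by
      by_contra h4
      apply hxT
      have h5 : (((b : T) * (b' : T)⁻¹ : T) : G) ∈ A := A.mul_mem b.2 (A.inv_mem b'.2)
      refine h.cent _ h5 (fun h6 => h4 (Subtype.ext h6)) ?_
      rw [mem_centralizer_singleton_iff]
      have h6 := congrArg (Subtype.val : T → G) h2
      rw [cj_apply] at h6
      calc (x : G) * (((b : T) * (b' : T)⁻¹ : T) : G)
          = (x : G) * ((x : G)⁻¹ * (((b : T) * (b' : T)⁻¹ : T) : G) * x) := by rw [h6]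
        _ = _ := by group
    exact Subtype.ext (mul_inv_eq_one.1 h3)
  obtain ⟨b, hb⟩ := (Finite.injective_iff_surjective.1 hinj) ⟨a, haA⟩
  have h1 : (b : T)⁻¹ * cj x b = a := congrArg Subtype.val hb
  rw [← h1, map_mul, map_inv]
  have h2 : l (cj x (b : T)) = l b := DFunLike.congr_fun hx _
  rw [h2, inv_mul_cancel]

omit [Fintype G] [Fintype (normalizer (T : Set G))] [Fintype T] in
theorem cj_of_mem (h : Tor A T m) {x : normalizer (T : Set G)} (hx : (x : G) ∈ T) : cj x = MonoidHom.id T := by
  ext t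
  rw [cj_apply, h.comm _ (T.inv_mem hx) _ t.2]
  simp

omit [Fintype G] [Fintype (normalizer (T : Set G))] [Fintype T] in
theorem cj_mul (x y : normalizer (T : Set G)) : cj (x * y) = (cj y).comp (cj x) := by
  ext t
  simp only [cj_apply, MonoidHom.comp_apply, Subgroup.coe_mul]
  group

omit [Fintype (normalizer (T : Set G))] [Fintype T] in
/-- the stabilizer count of a regular character -/
theorem mv_self (h : Tor A T m) {l : T →* ℂˣ} (hl : Nt A l) : mv l l = Nat.card T := by
  have hle : T ≤ normalizer (T : Set G) := le_normalizer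
  refine Nat.card_congr ⟨fun x => ⟨x.1, mem_of_fix h hl x.2⟩, fun t => ⟨⟨t, hle t.2⟩, ?_⟩, ?_, ?_⟩
  · rw [cj_of_mem h (x := ⟨t, hle t.2⟩) t.2, MonoidHom.comp_id]
  · intro x; rfl
  · intro t; rfl

omit [Fintype G] [Fintype (normalizer (T : Set G))] [Fintype T] in
theorem mv_eq_zero {l l' : T →* ℂˣ} (hl : ∀ x : normalizer (T : Set G), l'.comp (cj x) ≠ l) : mv l l' = 0 := by
  rw [mv]
  have : IsEmpty {x : normalizer (T : Set G) // l'.comp (cj x) = l} := ⟨fun x => hl x.1 x.2⟩
  exact Nat.card_of_isEmpty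

/-- same restriction to the elements of order dividing `m` -/
def SameE (m : ℕ) {T : Subgroup G} (l l' : T →* ℂˣ) : Prop := ∀ t : T, t ^ m = 1 → l t = l' t

/-- inner products of differences -/
theorem gram_diff (h : Tor A T m) {l₁ l₂ l₃ l₄ : T →* ℂˣ} (h12 : SameE m l₁ l₂) :
    classInner (indFun T (lf l₁ - lf l₂)) (indFun T (lf l₃ - lf l₄)) =
      (Nat.card T : ℂ)⁻¹ * ((mv l₁ l₃ : ℂ) - mv l₁ l₄ - mv l₂ l₃ + mv l₂ l₄) := by
  have hα : ∀ t : T, t ^ m = 1 → (lf l₁ - lf l₂) t = 0 := by
    intro t ht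
    rw [Pi.sub_apply, lf_apply, lf_apply, h12 t ht, sub_self]
  rw [gram h hα]
  congr 1
  have h1 : ∀ x : normalizer (T : Set G), classInner (lf l₁ - lf l₂) (twist (lf l₃ - lf l₄) x) =
      classInner (lf l₁) (twist (lf l₃) x) - classInner (lf l₁) (twist (lf l₄) x) -
      classInner (lf l₂) (twist (lf l₃) x) + classInner (lf l₂) (twist (lf l₄) x) := by
    intro x
    have h2 : twist (lf l₃ - lf l₄) x = twist (lf l₃) x - twist (lf l₄) x := rfl
    rw [h2, classInner_sub_left, classInner_sub_right, classInner_sub_right]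
    ring
  rw [Finset.sum_congr rfl fun x _ => h1 x, Finset.sum_add_distrib, Finset.sum_sub_distrib, Finset.sum_sub_distrib,
    sum_inner, sum_inner, sum_inner, sum_inner]

end Gram

end Cfsg.Agent.H221.TC
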