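import Cfsg.Agent.H221.TC.Sum

/-!
# Clean tori, `T` self-centralizing: the sum of squares of the constant values (helper221; S2464)
-/

set_option autoImplicit false
set_option linter.unusedSectionVars false
set_option linter.style.haveILetI false

open Cfsg Subgroup
open scoped ComplexConjugate

namespace Cfsg.Agent.H221.TC

open Cfsg.Agent.Characters.Core

universe u

variable {G : Type u} [Group G] {T : Subgroup G}

theorem tor_one (hab : ∀ a ∈ T, ∀ b ∈ T, a * b = b * a)
    (hc : ∀ a ∈ T, a ≠ 1 → Subgroup.centralizer ({a} : Set G) ≤ T) : Tor T T 1 :=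
  ⟨hab, le_rfl, hc, fun t ht => by rwa [pow_one], Nat.coprime_one_left _⟩

theorem nt_iff {l : T →* ℂˣ} : Nt T l ↔ l ≠ 1 := by
  constructor
  · rintro ⟨a, -, ha⟩ rfl
    exact ha rfl
  · intro hl
    by_contra hc
    exact hl (MonoidHom.ext fun t => by by_contra hc'; exact hc ⟨t, t.2, hc'⟩)

/-- multiplicities of a function constant on the nonidentity elements -/
theorem inner_const [Fintype T] {F : T → ℂ} {z : ℂ} (hF : ∀ t : T, t ≠ 1 → F t = z) {l : T →* ℂˣ} (hl : l ≠ 1) :
    classInner F (lf l) = (Nat.card T : ℂ)⁻¹ * (F 1 - z) := by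
  classical
  have h1 : classInner (lf (1 : T →* ℂˣ)) (lf l) = 0 := by rw [inner_lf, if_neg hl.symm]
  have hT0 : (Nat.card T : ℂ) ≠ 0 := by exact_mod_cast Nat.card_pos.ne'
  rw [classInner_def] at h1 ⊢
  have h2 : ∑ t : T, conj (lf l t) = 0 := by
    have h3 := (mul_eq_zero.1 h1).resolve_left (inv_ne_zero hT0)
    rw [← h3]
    refine Finset.sum_congr rfl fun t _ => ?_
    simp [lf]
  have h4 : ∀ t : T, F t * conj (lf l t) = (if t = 1 then F 1 - z else 0) + z * conj (lf l t) := by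
    intro t
    by_cases ht : t = 1
    · subst ht
      rw [if_pos rfl, lf_one, map_one]; ring
    · rw [if_neg ht, hF t ht]; ring
  rw [Finset.sum_congr rfl fun t _ => h4 t, Finset.sum_add_distrib, ← Finset.mul_sum, h2, Finset.sum_ite_eq',
    if_pos (Finset.mem_univ _), mul_zero, add_zero]

/-- **The sum of squares.** `T` abelian, self-centralizing at every nonidentity element, `w = |N(T) : T|`,
`w (w + 2) + 1 < |T|`: the squares of the constant values on `T - 1` of the irreducible characters that are constant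
there add up to `w`, and the nonconstant ones form one family of at least `w + 3` characters which agree outside the
conjugates of `T - 1`. -/
theorem sum_sq [Finite G] [Fintype (IrrCharacter G)] (hab : ∀ a ∈ T, ∀ b ∈ T, a * b = b * a)
    (hc : ∀ a ∈ T, a ≠ 1 → Subgroup.centralizer ({a} : Set G) ≤ T) {w : ℕ}
    (hw : T.relIndex (normalizer (T : Set G)) = w) (hk : w * (w + 2) + 1 < Nat.card T) :
    ∃ c : IrrCharacter G → ℤ,
      (∀ χ : IrrCharacter G, (∃ z : ℂ, ∀ t ∈ T, t ≠ 1 → (χ : G → ℂ) t = z) →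
        ∀ t ∈ T, t ≠ 1 → (χ : G → ℂ) t = c χ) ∧
      (∀ χ : IrrCharacter G, (¬ ∃ z : ℂ, ∀ t ∈ T, t ≠ 1 → (χ : G → ℂ) t = z) → c χ = 0) ∧
      ∑ χ : IrrCharacter G, c χ ^ 2 = w ∧
      ∃ (n : ℕ) (M : Fin n → IrrCharacter G), Function.Injective M ∧ w + 3 ≤ n ∧ Nat.card T ≤ n * w + 1 ∧
        (∀ χ : IrrCharacter G, (¬ ∃ z : ℂ, ∀ t ∈ T, t ≠ 1 → (χ : G → ℂ) t = z) ↔ ∃ i, χ = M i) ∧
        ∀ i j, ∀ g : G, (∀ x : G, ∀ t ∈ T, t ≠ 1 → g ≠ x * t * x⁻¹) → (M i : G → ℂ) g = (M j : G → ℂ) g := by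
  classical
  have := Fintype.ofFinite G
  have : Fintype T := Fintype.ofFinite _
  have : Fintype (normalizer (T : Set G)) := Fintype.ofFinite _
  have : Finite (T →* ℂˣ) := finite_hom
  have : Fintype (T →* ℂˣ) := Fintype.ofFinite _
  have h := tor_one hab hc
  -- a nontrivial character
  obtain ⟨t₀, ht₀⟩ : ∃ t : T, t ≠ 1 := by
    have : 1 < Nat.card T := by omega
    have h1 : Nontrivial T := Finite.one_lt_card_iff_nontrivial.1 this
    exact exists_ne 1
  obtain ⟨l₀, hl₀⟩ := exists_sep h ht₀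
  have hl₀' : Nt T l₀ := ⟨t₀, t₀.2, hl₀⟩
  obtain ⟨n, rep, ε, μ, hε, hμ, hinj, hrep, hdis, hcov, hτ⟩ := exists_fam h hl₀'
  have hsame : ∀ l l' : T →* ℂˣ, SameE 1 l l' := fun l l' t ht => by
    rw [pow_one] at ht
    rw [ht, map_one, map_one]
  have hn1 : Nat.card T ≤ n * w + 1 := by
    have h1 := card_fam_le h hcov
    have h2 := card_fam_ge h l₀
    rw [hw] at h1
    omega
  have hn : w + 3 ≤ n := by
    by_contra hcon
    have h1 : n * w ≤ (w + 2) * w := Nat.mul_le_mul_right _ (by omega)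
    have h2 : (w + 2) * w = w * (w + 2) := mul_comm _ _
    omega
  have i₀ : Fin n := ⟨0, by omega⟩
  choose aN haN using fun (χ : IrrCharacter G) (l : T →* ℂˣ) => exists_mult (T := T) χ l
  have hg1 : ¬ Nt T (1 : T →* ℂˣ) := fun hn => nt_iff.1 hn rfl
  have hW : mv (1 : T →* ℂˣ) 1 = w * Nat.card T := by
    have h1 : mv (1 : T →* ℂˣ) 1 = Nat.card (normalizer (T : Set G)) := by
      refine Nat.card_congr ⟨fun x => x.1, fun x => ⟨x, ?_⟩, fun x => rfl, fun x => rfl⟩
      ext t; simp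
    have h2 : Nat.card (T.subgroupOf (normalizer (T : Set G))) = Nat.card T :=
      Nat.card_congr (Subgroup.subgroupOfEquivOfLe le_normalizer).toEquiv
    rw [h1, ← hw, ← h2]
    exact (Subgroup.index_mul_card (T.subgroupOf (normalizer (T : Set G)))).symm
  have hsum := sum_rule h hg1 hε hμ hinj (fun i => (hrep i).1) (fun i => hsame _ _) hdis hτ hW hn aN haN i₀
  -- the nonexceptional characters have equal multiplicities
  have hinner : ∀ (χ : IrrCharacter G) (i j : Fin n), classInner (indFun T (lf (rep i) - lf (rep j))) (χ : G → ℂ) =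
      (aN χ (rep i) : ℂ) - aN χ (rep j) := by
    intro χ i j
    rw [S0146.result T _ _ (isIrr_isClassFunction χ.2), classInner_sub_left, ← classInner_conj_symm, haN,
      ← classInner_conj_symm (fun t : T => (χ : G → ℂ) t), haN, Complex.conj_natCast, Complex.conj_natCast]
  have heq : ∀ χ : IrrCharacter G, (¬ ∃ i, (χ : G → ℂ) = μ i) → ∀ i j, aN χ (rep i) = aN χ (rep j) := by
    intro χ hχ i j
    have h1 := hinner χ i j
    rw [hτ i j, classInner_smul_left, classInner_sub_left, classInner_irr_ne (hμ i) χ.2 fun h => hχ ⟨i, h.symm⟩,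
      classInner_irr_ne (hμ j) χ.2 fun h => hχ ⟨j, h.symm⟩] at h1
    have h2 : (aN χ (rep i) : ℂ) = aN χ (rep j) := by linear_combination -h1
    exact_mod_cast h2
  have hcomp : ∀ (χ : IrrCharacter G) (l : T →* ℂˣ) (x : normalizer (T : Set G)), aN χ (l.comp (cj x)) = aN χ l := by
    intro χ l x
    have h1 : (aN χ (l.comp (cj x)) : ℂ) = aN χ l := by
      rw [← haN, ← haN, classInner_def, classInner_def]
      congr 1
      refine Fintype.sum_bijective (cj x) ?_ _ _ fun t => ?_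
      · refine ⟨fun a b hab' => ?_, fun a => ⟨cj x⁻¹ a, ?_⟩⟩
        · have h2 := congrArg (cj x⁻¹) hab'
          have h3 : ∀ b : T, cj x⁻¹ (cj x b) = b := fun b => by
            have := DFunLike.congr_fun (cj_mul x x⁻¹) b
            rw [mul_inv_cancel, cj_one] at this
            exact this.symm
          rwa [h3, h3] at h2
        · have := DFunLike.congr_fun (cj_mul x⁻¹ x) a
          rw [inv_mul_cancel, cj_one] at this
          exact this.symm
      · have h2 : (χ : G → ℂ) (t : G) = (χ : G → ℂ) ((cj x t : T) : G) := by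
          rw [cj_apply]
          have := isIrr_isClassFunction χ.2 (t : G) (x : G)⁻¹
          rw [inv_inv] at this
          exact this.symm
        show (χ : G → ℂ) t * conj (lf (l.comp (cj x)) t) = (χ : G → ℂ) ((cj x t : T) : G) * conj (lf l (cj x t))
        rw [← h2]; rfl
    exact_mod_cast h1
  have hall : ∀ χ : IrrCharacter G, (¬ ∃ i, (χ : G → ℂ) = μ i) → ∀ l, Nt T l → aN χ l = aN χ (rep i₀) := by
    intro χ hχ l hl
    obtain ⟨i, x, rfl⟩ := hcov l ⟨hl, hsame _ _⟩
    rw [hcomp, heq χ hχ i i₀]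
  have hval : ∀ χ : IrrCharacter G, (¬ ∃ i, (χ : G → ℂ) = μ i) → ∀ t ∈ T, t ≠ 1 →
      (χ : G → ℂ) t = (((aN χ 1 : ℤ) - aN χ (rep i₀) : ℤ) : ℂ) := by
    intro χ hχ t ht ht1
    have h1 := value h (F := fun t : T => (χ : G → ℂ) t) (sel := fun _ => rep i₀)
      (fun l l' hl hl' _ => by rw [haN, haN, hall χ hχ l hl, hall χ hχ l' hl'])
      (fun g _ => ⟨(hrep i₀).1, hsame _ _⟩) (t := ⟨t, ht⟩) (by
        rw [pow_one]; exact fun h2 => ht1 (congrArg Subtype.val h2))
    have h2 : (χ : G → ℂ) t = _ := h1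
    rw [h2, Finset.sum_eq_single (1 : T →* ℂˣ)]
    · rw [if_neg hg1, haN, haN]
      push_cast
      simp
    · intro g _ hg
      rw [if_pos (nt_iff.2 hg)]
    · intro h3; exact absurd (Finset.mem_univ _) h3
  have hnc : ∀ i, ¬ ∃ z : ℂ, ∀ t ∈ T, t ≠ 1 → μ i t = z := by
    rintro i ⟨z, hz⟩
    obtain ⟨j, hj⟩ : ∃ j : Fin n, j ≠ i := by
      have : Nontrivial (Fin n) := Fin.nontrivial_iff_two_le.2 (by omega)
      exact exists_ne i
    have h1 := hinner ⟨μ i, hμ i⟩ i j
    rw [hτ i j, classInner_smul_left, classInner_sub_left] at h1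
    have h2 : classInner (μ i) ((⟨μ i, hμ i⟩ : IrrCharacter G) : G → ℂ) = 1 := classInner_irr_self (hμ i)
    have h3 : classInner (μ j) ((⟨μ i, hμ i⟩ : IrrCharacter G) : G → ℂ) = 0 :=
      classInner_irr_ne (hμ j) (hμ i) fun h => hj (hinj h)
    rw [h2, h3, ← haN, ← haN] at h1
    have h4 : ∀ t : T, t ≠ 1 → (fun t : T => ((⟨μ i, hμ i⟩ : IrrCharacter G) : G → ℂ) t) t = z :=
      fun t ht => hz t t.2 fun h => ht (Subtype.ext h)
    rw [inner_const h4 (nt_iff.1 (hrep i).1), inner_const h4 (nt_iff.1 (hrep j).1), sub_self] at h1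
    rcases hε with h5 | h5 <;> rw [h5] at h1 <;> norm_num at h1
  refine ⟨fun χ => if ∃ i, (χ : G → ℂ) = μ i then 0 else (aN χ 1 : ℤ) - aN χ (rep i₀), ?_, ?_, ?_, n,
    fun i => ⟨μ i, hμ i⟩, fun i j hij => hinj (congrArg Subtype.val hij), hn, hn1, ?_, ?_⟩
  · rintro χ ⟨z, hz⟩ t ht ht1
    have hχ : ¬ ∃ i, (χ : G → ℂ) = μ i := by
      rintro ⟨i, hi⟩
      exact hnc i ⟨z, fun t ht ht1 => by rw [← hi]; exact hz t ht ht1⟩
    beta_reduce
    rw [hval χ hχ t ht ht1, if_neg hχ]
  · intro χ hχ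
    beta_reduce
    by_cases hχ' : ∃ i, (χ : G → ℂ) = μ i
    · rw [if_pos hχ']
    · exact absurd ⟨_, hval χ hχ'⟩ hχ
  · rw [← hsum]
    refine Finset.sum_congr rfl fun χ _ => ?_
    beta_reduce
    by_cases hχ : ∃ i, (χ : G → ℂ) = μ i
    · rw [if_pos hχ, if_pos hχ]; ring
    · rw [if_neg hχ, if_neg hχ]
  · intro χ
    constructor
    · intro hχ
      by_contra hcon
      refine hχ ⟨_, hval χ ?_⟩
      rintro ⟨i, hi⟩
      exact hcon ⟨i, Subtype.ext hi⟩
    · rintro ⟨i, rfl⟩
      exact hnc i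
  · intro i j g hg
    have h1 := congrFun (hτ i j) g
    have h2 : indFun T (lf (rep i) - lf (rep j)) g = 0 := by
      rw [indFun_apply]
      refine mul_eq_zero_of_right _ (Finset.sum_eq_zero fun x _ => ?_)
      by_cases hx : x⁻¹ * g * x ∈ T
      · have h3 : x⁻¹ * g * x = 1 := by
          by_contra h4
          exact hg x _ hx h4 (by group)
        rw [extendByZero_of_mem T _ hx]
        have h4 : (⟨x⁻¹ * g * x, hx⟩ : T) = 1 := Subtype.ext h3
        rw [h4, Pi.sub_apply, lf_one, lf_one, sub_self]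
      · exact extendByZero_of_notMem T _ hx
    rw [h2, Pi.smul_apply, Pi.sub_apply, smul_eq_mul] at h1
    have h5 : μ i g - μ j g = 0 := by
      rcases hε with h6 | h6 <;> rw [h6] at h1
      · linear_combination -h1
      · linear_combination h1
    exact sub_eq_zero.1 h5

end Cfsg.Agent.H221.TC
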