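import Cfsg.Agent.H221.TC.Val

/-!
# Clean tori: the sum rule (helper221; S2464)
-/

set_option autoImplicit false
set_option linter.unusedSectionVars false
set_option linter.style.haveILetI false

open Cfsg Subgroup
open scoped ComplexConjugate

namespace Cfsg.Agent.H221.TC

open Cfsg.Agent.Characters.Core

universe u

variable {G : Type u} [Group G] {A T : Subgroup G} {m : ℕ}

theorem not_nt_comp (h : Tor A T m) [Finite G] {g : T →* ℂˣ} (hg : ¬ Nt A g) (x : normalizer (T : Set G)) :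
    ¬ Nt A (g.comp (cj x)) := by
  intro hn
  apply hg
  have := nt_comp h hn x⁻¹
  rwa [MonoidHom.comp_assoc, ← cj_mul, inv_mul_cancel, cj_one, MonoidHom.comp_id] at this

/-- the multiplicities of linear characters -/
theorem exists_mult [Fintype G] [Fintype T] (χ : IrrCharacter G) (l : T →* ℂˣ) :
    ∃ a : ℕ, classInner (fun t : T => (χ : G → ℂ) t) (lf l) = a := by
  refine classInner_isNat ?_ (isIrr_isCharacter (isIrr_lf l))
  exact isCharacter_comp T.subtype (isIrr_isCharacter χ.2)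

/-- **The sum rule.** -/
theorem sum_rule [Fintype G] [Fintype T] [Fintype (normalizer (T : Set G))] [Fintype (IrrCharacter G)]
    (h : Tor A T m) {g : T →* ℂˣ} (hg : ¬ Nt A g)
    {n : ℕ} {rep : Fin n → (T →* ℂˣ)} {ε : ℂ} {μ : Fin n → (G → ℂ)} (hε : ε = 1 ∨ ε = -1)
    (hμ : ∀ i, IsIrrCharacter G (μ i)) (hinj : Function.Injective μ) (hrep : ∀ i, Nt A (rep i))
    (hsame : ∀ i, SameE m g (rep i))
    (hdis : ∀ i j, i ≠ j → ∀ x : normalizer (T : Set G), (rep j).comp (cj x) ≠ rep i)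
    (hτ : ∀ i j, indFun T (lf (rep i) - lf (rep j)) = ε • (μ i - μ j))
    {W : ℕ} (hW : mv g g = W * Nat.card T) (hn : W + 3 ≤ n)
    (aN : IrrCharacter G → (T →* ℂˣ) → ℕ)
    (haN : ∀ (χ : IrrCharacter G) (l : T →* ℂˣ), classInner (fun t : T => (χ : G → ℂ) t) (lf l) = aN χ l) (i₀ : Fin n)
    [DecidablePred fun χ : IrrCharacter G => ∃ i, (χ : G → ℂ) = μ i] :
    (∑ χ : IrrCharacter G, if ∃ i, (χ : G → ℂ) = μ i then (0 : ℤ) else ((aN χ g : ℤ) - aN χ (rep i₀)) ^ 2) = W := by
  classical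
  have hT0 : (Nat.card T : ℂ) ≠ 0 := by exact_mod_cast Nat.card_pos.ne'
  let d : IrrCharacter G → ℤ := fun χ => (aN χ g : ℤ) - aN χ (rep i₀)
  let θ : G → ℂ := indFun T (lf g - lf (rep i₀))
  have hcf : ∀ β : T → ℂ, IsClassFunction G (indFun T β) := fun β =>
    Cfsg.Agent.Characters.Brauer.indFun_isClassFunction T β
  have hθ : ∀ χ : IrrCharacter G, classInner θ (χ : G → ℂ) = (d χ : ℂ) := by
    intro χ
    show classInner (indFun T (lf g - lf (rep i₀))) _ = _
    rw [S0146.result T _ _ (isIrr_isClassFunction χ.2), classInner_sub_left, ← classInner_conj_symm, haN,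
      ← classInner_conj_symm (fun t : T => (χ : G → ℂ) t), haN, Complex.conj_natCast, Complex.conj_natCast]
    show _ = (((aN χ g : ℤ) - aN χ (rep i₀) : ℤ) : ℂ)
    push_cast
    rfl
  -- the norm
  have hz1 : ∀ i, mv g (rep i) = 0 := fun i => mv_eq_zero fun x hx => by
    have := nt_comp h (hrep i) x
    rw [hx] at this
    exact hg this
  have hz2 : ∀ i, mv (rep i) g = 0 := fun i => mv_eq_zero fun x hx => by
    have := not_nt_comp h hg x
    rw [hx] at this
    exact this (hrep i)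
  have hnorm : classInner θ θ = (W : ℂ) + 1 := by
    show classInner (indFun T (lf g - lf (rep i₀))) (indFun T (lf g - lf (rep i₀))) = _
    rw [gram_diff h (hsame i₀), hz1, hz2, hW, mv_self h (hrep i₀)]
    push_cast
    field_simp
    ring
  have hpars : ∑ χ : IrrCharacter G, d χ ^ 2 = (W : ℤ) + 1 := by
    have h1 := classInner_eq_sum (hcf (lf g - lf (rep i₀))) (hcf (lf g - lf (rep i₀)))
    have h2 : classInner θ θ = ∑ χ : IrrCharacter G, ((d χ : ℂ)) ^ 2 := by
      rw [h1]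
      refine Finset.sum_congr rfl fun χ _ => ?_
      rw [show indFun T (lf g - lf (rep i₀)) = θ from rfl, hθ χ, map_intCast]
      ring
    rw [hnorm] at h2
    have h3 : ((∑ χ : IrrCharacter G, d χ ^ 2 : ℤ) : ℂ) = (((W : ℤ) + 1 : ℤ) : ℂ) := by
      push_cast
      exact h2.symm
    exact_mod_cast h3
  -- the exceptional characters
  let M : Fin n → IrrCharacter G := fun i => ⟨μ i, hμ i⟩
  have hM : Function.Injective M := fun i j hij => hinj (congrArg Subtype.val hij)
  obtain ⟨e, he, heε⟩ : ∃ e : ℤ, (e = 1 ∨ e = -1) ∧ (e : ℂ) = ε := by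
    rcases hε with h1 | h1
    · exact ⟨1, Or.inl rfl, by rw [h1]; norm_num⟩
    · exact ⟨-1, Or.inr rfl, by rw [h1]; norm_num⟩
  have hrel : ∀ i, i ≠ i₀ → d (M i) = d (M i₀) + e := by
    intro i hi
    have h1 : classInner θ (indFun T (lf (rep i) - lf (rep i₀))) = 1 := by
      show classInner (indFun T (lf g - lf (rep i₀))) _ = 1
      rw [gram_diff h (hsame i₀), hz1, hz1, mv_eq_zero (hdis i₀ i hi.symm), mv_self h (hrep i₀)]
      push_cast
      field_simp
      ring
    rw [hτ i i₀, classInner_smul_right, classInner_sub_right] at h1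
    have h2 := hθ (M i)
    have h3 := hθ (M i₀)
    rw [show ((M i : IrrCharacter G) : G → ℂ) = μ i from rfl] at h2
    rw [show ((M i₀ : IrrCharacter G) : G → ℂ) = μ i₀ from rfl] at h3
    rw [h2, h3, ← heε, map_intCast] at h1
    have h4 : e * (d (M i) - d (M i₀)) = 1 := by exact_mod_cast h1
    rcases he with h5 | h5 <;> rw [h5] at h4 ⊢ <;> linarith
  -- splitting the sum
  have hsplit : ∑ χ : IrrCharacter G, d χ ^ 2 =
      (∑ i, d (M i) ^ 2) + ∑ χ : IrrCharacter G, if ∃ i, (χ : G → ℂ) = μ i then (0 : ℤ) else d χ ^ 2 := by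
    have h1 : ∀ χ : IrrCharacter G, d χ ^ 2 = (if ∃ i, (χ : G → ℂ) = μ i then d χ ^ 2 else 0) +
        (if ∃ i, (χ : G → ℂ) = μ i then (0 : ℤ) else d χ ^ 2) := by
      intro χ
      by_cases hχ : ∃ i, (χ : G → ℂ) = μ i
      · rw [if_pos hχ, if_pos hχ, add_zero]
      · rw [if_neg hχ, if_neg hχ, zero_add]
    rw [Finset.sum_congr rfl fun χ _ => h1 χ, Finset.sum_add_distrib]
    congr 1
    rw [← Finset.sum_filter]
    symm
    refine Finset.sum_bij (fun i _ => M i) (fun i _ => Finset.mem_filter.2 ⟨Finset.mem_univ _, i, rfl⟩)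
      (fun i _ j _ hij => hM hij) ?_ (fun _ _ => rfl)
    intro χ hχ
    obtain ⟨-, i, hi⟩ := Finset.mem_filter.1 hχ
    exact ⟨i, Finset.mem_univ _, Subtype.ext hi.symm⟩
  have hex : ∑ i, d (M i) ^ 2 = d (M i₀) ^ 2 + ((n : ℤ) - 1) * (d (M i₀) + e) ^ 2 := by
    rw [← Finset.add_sum_erase _ _ (Finset.mem_univ i₀)]
    congr 1
    rw [Finset.sum_congr rfl (g := fun _ => (d (M i₀) + e) ^ 2) fun i hi => by rw [hrel i (Finset.mem_erase.1 hi).1],
      Finset.sum_const, Finset.card_erase_of_mem (Finset.mem_univ _), Finset.card_univ, Fintype.card_fin, nsmul_eq_mul,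
      Nat.cast_sub (by omega), Nat.cast_one]
  have hpos : 0 ≤ ∑ χ : IrrCharacter G, if ∃ i, (χ : G → ℂ) = μ i then (0 : ℤ) else d χ ^ 2 := by
    refine Finset.sum_nonneg fun χ _ => ?_
    split_ifs
    · exact le_rfl
    · positivity
  rw [hpars, hex] at hsplit
  have h0 : d (M i₀) + e = 0 := by
    by_contra hc
    have h1 : 1 ≤ (d (M i₀) + e) ^ 2 := by
      have : 0 < (d (M i₀) + e) ^ 2 := by positivity
      omega
    have h2 : (W : ℤ) + 2 ≤ ((n : ℤ) - 1) * (d (M i₀) + e) ^ 2 := by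
      have h3 : (W : ℤ) + 3 ≤ n := by exact_mod_cast hn
      nlinarith
    have h4 : 0 ≤ d (M i₀) ^ 2 := by positivity
    linarith
  have h1 : d (M i₀) ^ 2 = 1 := by
    have h2 : d (M i₀) = -e := by linarith
    rw [h2]
    rcases he with h5 | h5 <;> rw [h5] <;> norm_num
  rw [h0, h1] at hsplit
  linarith

end Cfsg.Agent.H221.TC
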