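import Cfsg.Agent.H221.TC.Fam

/-!
# Clean tori: values of the nonexceptional characters (helper221; S2464)
-/

set_option autoImplicit false
set_option linter.unusedSectionVars false
set_option linter.style.haveILetI false

open Cfsg Subgroup
open scoped ComplexConjugate

namespace Cfsg.Agent.H221.TC

open Cfsg.Agent.Characters.Core

universe u

variable {G : Type u} [Group G] {A T : Subgroup G} {m : ℕ}

/-- a sum of characters over a set stable under multiplication by a character -/
theorem sum_zero [Fintype (T →* ℂˣ)] {S : Finset (T →* ℂˣ)} {β : T →* ℂˣ}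
    (hmul : ∀ l : T →* ℂˣ, ∃ l' : T →* ℂˣ, ∀ s, l' s = β s * l s)
    (hS : ∀ l l' : T →* ℂˣ, (∀ s, l' s = β s * l s) → (l ∈ S ↔ l' ∈ S)) {u : T} (hβ : β u ≠ 1) :
    ∑ l ∈ S, ((l u : ℂˣ) : ℂ) = 0 := by
  classical
  choose f hf using hmul
  have hinj : Function.Injective f := by
    intro l l' hll
    ext s
    have h1 := hf l s
    rw [hll, hf l' s] at h1
    exact congrArg Units.val (mul_left_cancel h1).symm
  have hbij : Function.Bijective f := (Finite.injective_iff_bijective).1 hinj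
  have h1 : ∑ l ∈ S, ((l u : ℂˣ) : ℂ) = ∑ l ∈ S, ((f l u : ℂˣ) : ℂ) := by
    symm
    refine Finset.sum_bij (fun l _ => f l) (fun l hl => (hS l (f l) (hf l)).1 hl) (fun l _ l' _ h => hinj h) ?_
      (fun l _ => rfl)
    intro l' hl'
    obtain ⟨l, rfl⟩ := hbij.2 l'
    exact ⟨l, (hS l (f l) (hf l)).2 hl', rfl⟩
  have h2 : ∑ l ∈ S, ((f l u : ℂˣ) : ℂ) = ((β u : ℂˣ) : ℂ) * ∑ l ∈ S, ((l u : ℂˣ) : ℂ) := by
    rw [Finset.mul_sum]
    refine Finset.sum_congr rfl fun l _ => ?_
    rw [hf l u, Units.val_mul]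
  rw [h2] at h1
  have h3 : ((β u : ℂˣ) : ℂ) - 1 ≠ 0 := by
    rw [sub_ne_zero]
    intro h4
    exact hβ (Units.ext h4)
  have h4 : (((β u : ℂˣ) : ℂ) - 1) * ∑ l ∈ S, ((l u : ℂˣ) : ℂ) = 0 := by linear_combination -h1
  exact (mul_eq_zero.1 h4).resolve_left h3

/-- products of linear characters of an abelian subgroup -/
theorem exists_mul (_ : Tor A T m) (β l : T →* ℂˣ) : ∃ l' : T →* ℂˣ, ∀ s, l' s = β s * l s := by
  refine ⟨{ toFun := fun s => β s * l s, map_one' := by simp, map_mul' := fun a b => ?_ }, fun s => rfl⟩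
  rw [map_mul, map_mul]
  rw [mul_mul_mul_comm]

/-- separating characters, trivial on the elements of order dividing `m` -/
theorem exists_beta [Finite G] (h : Tor A T m) {t : T} (ht : t ^ m ≠ 1) :
    ∃ β : T →* ℂˣ, (∀ s : T, s ^ m = 1 → β s = 1) ∧ β t ≠ 1 := by
  letI : CommGroup T := { (inferInstance : Group T) with mul_comm := fun a b => Subtype.ext (h.comm _ a.2 _ b.2) }
  letI : CommGroup A := { (inferInstance : Group A) with mul_comm := fun a b => Subtype.ext (h.comm _ (h.le a.2) _ (h.le b.2)) }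
  let pw : T →* A :=
    { toFun := fun t => ⟨(t : G) ^ m, h.pow t t.2⟩
      map_one' := by ext; simp
      map_mul' := fun a b => by
        ext
        show ((a * b : T) : G) ^ m = (a : G) ^ m * (b : G) ^ m
        rw [← Subgroup.coe_pow, mul_pow]; rfl }
  have h1 : pw t ≠ 1 := fun h2 => ht (Subtype.ext (by
    have := congrArg (Subtype.val : A → G) h2
    rw [Subgroup.coe_pow]
    exact this))
  obtain ⟨α, hα⟩ := CommGroup.exists_apply_ne_one_of_hasEnoughRootsOfUnity A ℂ h1
  refine ⟨α.comp pw, fun s hs => ?_, hα⟩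
  rw [MonoidHom.comp_apply]
  have h2 : pw s = 1 := by
    ext
    show (s : G) ^ m = 1
    rw [← Subgroup.coe_pow, hs]; rfl
  rw [h2, map_one]

/-- separating characters -/
theorem exists_sep [Finite G] (h : Tor A T m) {t : T} (ht : t ≠ 1) : ∃ β : T →* ℂˣ, β t ≠ 1 := by
  letI : CommGroup T := { (inferInstance : Group T) with mul_comm := fun a b => Subtype.ext (h.comm _ a.2 _ b.2) }
  exact CommGroup.exists_apply_ne_one_of_hasEnoughRootsOfUnity T ℂ ht

theorem card_hom [Finite G] (h : Tor A T m) : Nat.card (T →* ℂˣ) = Nat.card T := by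
  letI : CommGroup T := { (inferInstance : Group T) with mul_comm := fun a b => Subtype.ext (h.comm _ a.2 _ b.2) }
  exact CommGroup.card_monoidHom_of_hasEnoughRootsOfUnity T ℂ

/-- characters trivial on `A` with the same restriction to the elements of order dividing `m` are equal -/
theorem eq_of_same (h : Tor A T m) {g g' : T →* ℂˣ} (hg : ¬ Nt A g) (hg' : ¬ Nt A g') (hs : SameE m g g') : g = g' := by
  ext t
  congr 1
  -- Bezout
  have hA : ∀ s : T, g (s ^ m) = 1 ∧ g' (s ^ m) = 1 := by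
    intro s
    have h1 : ((s ^ m : T) : G) ∈ A := by rw [Subgroup.coe_pow]; exact h.pow _ s.2
    exact ⟨by by_contra hc; exact hg ⟨_, h1, hc⟩, by by_contra hc; exact hg' ⟨_, h1, hc⟩⟩
  have hE : g (t ^ Nat.card A) = g' (t ^ Nat.card A) := by
    apply hs
    rw [← pow_mul, mul_comm, pow_mul]
    have h1 : ((t ^ m : T) : G) ∈ A := by rw [Subgroup.coe_pow]; exact h.pow _ t.2
    have h2 : (⟨_, h1⟩ : A) ^ Nat.card A = 1 := pow_card_eq_one'
    have h3 := congrArg (Subtype.val : A → G) h2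
    rw [Subgroup.coe_pow] at h3
    refine Subtype.ext ?_
    rw [Subgroup.coe_pow]
    exact h3
  have hb : (1 : ℤ) = m * Nat.gcdA m (Nat.card A) + Nat.card A * Nat.gcdB m (Nat.card A) := by
    have := Nat.gcd_eq_gcd_ab m (Nat.card A)
    rw [h.cop] at this
    exact_mod_cast this
  have h1 : ∀ f : T →* ℂˣ, f t = f (t ^ m) ^ Nat.gcdA m (Nat.card A) * f (t ^ Nat.card A) ^ Nat.gcdB m (Nat.card A) := by
    intro f
    rw [map_pow, map_pow, ← zpow_natCast, ← zpow_natCast, ← zpow_mul, ← zpow_mul, ← zpow_add, ← hb, zpow_one]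
  rw [h1 g, h1 g', (hA t).1, (hA t).2, hE]

section Fourier

variable [Fintype T] [Fintype (T →* ℂˣ)]

theorem fourier [Finite G] (h : Tor A T m) (F : T → ℂ) (t : T) :
    F t = ∑ l : T →* ℂˣ, classInner F (lf l) * ((l t : ℂˣ) : ℂ) := by
  classical
  have hT0 : (Nat.card T : ℂ) ≠ 0 := by exact_mod_cast Nat.card_pos.ne'
  simp only [classInner_def]
  have h1 : ∀ l : T →* ℂˣ, (Nat.card T : ℂ)⁻¹ * (∑ s : T, F s * conj (lf l s)) * ((l t : ℂˣ) : ℂ) =
      ∑ s : T, (Nat.card T : ℂ)⁻¹ * F s * ((l (s⁻¹ * t) : ℂˣ) : ℂ) := by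
    intro l
    rw [Finset.mul_sum, Finset.sum_mul]
    refine Finset.sum_congr rfl fun s _ => ?_
    have h2 : conj (lf l s) = ((l s⁻¹ : ℂˣ) : ℂ) := by
      have := isCharacter_apply_inv (isIrr_isCharacter (isIrr_lf l)) s
      rw [← this]
      rfl
    rw [h2, map_mul, Units.val_mul]
    ring
  rw [Finset.sum_congr rfl fun l _ => h1 l, Finset.sum_comm]
  have h2 : ∀ s : T, ∑ l : T →* ℂˣ, (Nat.card T : ℂ)⁻¹ * F s * ((l (s⁻¹ * t) : ℂˣ) : ℂ) =
      if s = t then F t else 0 := by
    intro s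
    rw [← Finset.mul_sum]
    by_cases hst : s = t
    · subst hst
      rw [if_pos rfl]
      have h3 : ∀ l : T →* ℂˣ, ((l (s⁻¹ * s) : ℂˣ) : ℂ) = 1 := fun l => by rw [inv_mul_cancel, map_one, Units.val_one]
      rw [Finset.sum_congr rfl fun l _ => h3 l, Finset.sum_const, Finset.card_univ, ← Nat.card_eq_fintype_card,
        card_hom h, nsmul_eq_mul, mul_one]
      field_simp
    · rw [if_neg hst]
      have h3 : s⁻¹ * t ≠ 1 := fun h4 => hst (inv_mul_eq_one.1 h4)
      obtain ⟨β, hβ⟩ := exists_sep h h3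
      rw [sum_zero (S := Finset.univ) (exists_mul h β) (fun _ _ _ => by simp) hβ, mul_zero]
  rw [Finset.sum_congr rfl fun s _ => h2 s, Finset.sum_ite_eq' Finset.univ t, if_pos (Finset.mem_univ _)]

/-- **value formula** for the functions with constant multiplicities on the families -/
theorem value [Finite G] (h : Tor A T m) {F : T → ℂ}
    (hF : ∀ l l' : T →* ℂˣ, Nt A l → Nt A l' → SameE m l l' → classInner F (lf l) = classInner F (lf l'))
    {sel : (T →* ℂˣ) → (T →* ℂˣ)} (hsel : ∀ g, ¬ Nt A g → InFam A m g (sel g)) [DecidablePred (Nt (T := T) A)]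
    {t : T} (ht : t ^ m ≠ 1) :
    F t = ∑ g : T →* ℂˣ, if Nt A g then 0 else
      (classInner F (lf g) - classInner F (lf (sel g))) * ((g t : ℂˣ) : ℂ) := by
  classical
  have hg : ∀ l : T →* ℂˣ, ∃ g : T →* ℂˣ, SameE m g l ∧ ¬ Nt A g := exists_gam h
  choose gam hgam1 hgam2 using hg
  obtain ⟨β, hβ1, hβ2⟩ := exists_beta h ht
  rw [fourier h F t, ← Finset.sum_fiberwise (s := Finset.univ) (g := gam)]
  refine Finset.sum_congr rfl fun g _ => ?_
  by_cases hgn : Nt A g
  · rw [if_pos hgn]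
    refine Finset.sum_eq_zero fun l hl => ?_
    exact absurd hgn ((Finset.mem_filter.1 hl).2 ▸ hgam2 l)
  · rw [if_neg hgn]
    have hmem : ∀ l : T →* ℂˣ, l ∈ Finset.univ.filter (fun l => gam l = g) ↔ SameE m l g := by
      intro l
      rw [Finset.mem_filter]
      constructor
      · rintro ⟨-, rfl⟩ s hs
        exact (hgam1 l s hs).symm
      · intro hs
        exact ⟨Finset.mem_univ _, eq_of_same h (hgam2 l) hgn fun s hs' => (hgam1 l s hs').trans (hs s hs')⟩
    have hz : ∑ l ∈ Finset.univ.filter (fun l => gam l = g), ((l t : ℂˣ) : ℂ) = 0 := by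
      refine sum_zero (exists_mul h β) ?_ hβ2
      intro l l' hll
      rw [hmem, hmem]
      constructor
      · intro hs s hs'
        rw [hll s, hβ1 s hs', one_mul, hs s hs']
      · intro hs s hs'
        have := hs s hs'
        rwa [hll s, hβ1 s hs', one_mul] at this
    have hgm : g ∈ Finset.univ.filter (fun l => gam l = g) := (hmem g).2 fun _ _ => rfl
    rw [← Finset.add_sum_erase _ _ hgm] at hz ⊢
    have h2 : ∀ l ∈ (Finset.univ.filter (fun l => gam l = g)).erase g,
        classInner F (lf l) * ((l t : ℂˣ) : ℂ) = classInner F (lf (sel g)) * ((l t : ℂˣ) : ℂ) := by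
      intro l hl
      have hl1 := (Finset.mem_erase.1 hl).1
      have hl2 := (hmem l).1 (Finset.mem_erase.1 hl).2
      have hln : Nt A l := by
        by_contra hc
        exact hl1 (eq_of_same h hc hgn hl2)
      rw [hF l (sel g) hln (hsel g hgn).1 fun s hs => (hl2 s hs).trans ((hsel g hgn).2 s hs).symm]
    rw [Finset.sum_congr rfl h2, ← Finset.mul_sum]
    linear_combination classInner F (lf (sel g)) * hz

end Fourier

end Cfsg.Agent.H221.TC
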